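import Cfsg.Agent.H10.J3.TT

set_option autoImplicit false

namespace Cfsg.Agent.H10.J3

open Cfsg.Agent.H10.F4

theorem chkE_0 : allFrom (chkE tE cS0 cS1 6480 324) 0 2160 = true := by
  decide +kernel

theorem chkE_1 : allFrom (chkE tE cS0 cS1 6480 324) 2160 2160 = true := by
  decide +kernel

theorem chkE_2 : allFrom (chkE tE cS0 cS1 6480 324) 4320 2160 = true := by
  decide +kernel

theorem chkE_all : ∀ e, e < 6480 → chkE tE cS0 cS1 6480 324 e = true := by
  intro e he
  by_cases h0 : e < 2160
  · exact allFrom_sound _ _ _ chkE_0 e (by omega) (by omega)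
  by_cases h1 : e < 4320
  · exact allFrom_sound _ _ _ chkE_1 e (by omega) (by omega)
  exact allFrom_sound _ _ _ chkE_2 e (by omega) (by omega)

theorem chkCore_0 : allFrom (chkCore tT tE [17560] 324 4981 5102) 0 6480 = true := by
  decide +kernel

theorem chkCore_all : ∀ e, e < 6480 → chkCore tT tE [17560] 324 4981 5102 e = true := by
  intro e he
  exact allFrom_sound _ _ _ chkCore_0 e (by omega) (by omega)

theorem chkRep_0 : allFrom (fun k => allFrom (chkRep tT tE tR tL 6480 k) 0 72) 1 27 = true := by
  decide +kernel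

theorem chkRep_all : ∀ k a, 1 ≤ k → k < 28 → a < 72 → chkRep tT tE tR tL 6480 k a = true := by
  intro k a hk1 hk2 ha
  have h := allFrom_sound _ _ _ chkRep_0 k (by omega) (by omega)
  exact allFrom_sound _ _ _ h a (by omega) (by omega)

end Cfsg.Agent.H10.J3
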