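import Cfsg.Agent.H10.J3.TT

set_option autoImplicit false

namespace Cfsg.Agent.H10.J3

open Cfsg.Agent.H10.F4

theorem chkSub_0 : allFrom (chkSub tT tE tR 23256 6480) 0 5814 = true := by
  decide +kernel

theorem chkSub_1 : allFrom (chkSub tT tE tR 23256 6480) 5814 5814 = true := by
  decide +kernel

theorem chkSub_2 : allFrom (chkSub tT tE tR 23256 6480) 11628 5814 = true := by
  decide +kernel

theorem chkSub_3 : allFrom (chkSub tT tE tR 23256 6480) 17442 5814 = true := by
  decide +kernel

theorem chkSub_all : ∀ i, i < 23256 → chkSub tT tE tR 23256 6480 i = true := by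
  intro i hi
  by_cases h0 : i < 5814
  · exact allFrom_sound _ _ _ chkSub_0 i (by omega) (by omega)
  by_cases h1 : i < 11628
  · exact allFrom_sound _ _ _ chkSub_1 i (by omega) (by omega)
  by_cases h2 : i < 17442
  · exact allFrom_sound _ _ _ chkSub_2 i (by omega) (by omega)
  exact allFrom_sound _ _ _ chkSub_3 i (by omega) (by omega)

end Cfsg.Agent.H10.J3
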