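import Cfsg.Agent.H10.J3.ChkT0
import Cfsg.Agent.H10.J3.ChkT1
import Cfsg.Agent.H10.J3.ChkT2
import Cfsg.Agent.H10.J3.ChkT3

set_option autoImplicit false

namespace Cfsg.Agent.H10.J3

open Cfsg.Agent.H10.F4

theorem chkT_all : ∀ i, i < 23256 → chkT tT tE cX cX' 23256 6480 324 i = true := by
  intro i hi
  by_cases h0 : i < 2907
  · exact allFrom_sound _ _ _ chkT_0 i (by omega) (by omega)
  by_cases h1 : i < 5814
  · exact allFrom_sound _ _ _ chkT_1 i (by omega) (by omega)
  by_cases h2 : i < 8721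
  · exact allFrom_sound _ _ _ chkT_2 i (by omega) (by omega)
  by_cases h3 : i < 11628
  · exact allFrom_sound _ _ _ chkT_3 i (by omega) (by omega)
  by_cases h4 : i < 14535
  · exact allFrom_sound _ _ _ chkT_4 i (by omega) (by omega)
  by_cases h5 : i < 17442
  · exact allFrom_sound _ _ _ chkT_5 i (by omega) (by omega)
  by_cases h6 : i < 20349
  · exact allFrom_sound _ _ _ chkT_6 i (by omega) (by omega)
  exact allFrom_sound _ _ _ chkT_7 i (by omega) (by omega)

end Cfsg.Agent.H10.J3
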