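import Cfsg.Agent.H10.J3.TT

set_option autoImplicit false

namespace Cfsg.Agent.H10.J3

open Cfsg.Agent.H10.F4

theorem chkT_0 : allFrom (chkT tT tE cX cX' 23256 6480 324) 0 2907 = true := by
  decide +kernel

theorem chkT_1 : allFrom (chkT tT tE cX cX' 23256 6480 324) 2907 2907 = true := by
  decide +kernel


end Cfsg.Agent.H10.J3
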