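import Cfsg.Agent.H10.J3.ChkV0
import Cfsg.Agent.H10.J3.ChkV1
import Cfsg.Agent.H10.J3.ChkV2
import Cfsg.Agent.H10.J3.ChkV3
import Cfsg.Agent.H10.J3.ChkV4
import Cfsg.Agent.H10.J3.ChkV5
import Cfsg.Agent.H10.J3.ChkV6
import Cfsg.Agent.H10.J3.ChkV7

set_option autoImplicit false

namespace Cfsg.Agent.H10.J3

open Cfsg.Agent.H10.F4

theorem chkV_all : ∀ c, c < 262144 → chkV tV cX cX' cR0 c = true := by
  intro c hc
  by_cases h0 : c < 4096
  · exact allFrom_sound _ _ _ chkV_0 c (by omega) (by omega)
  by_cases h1 : c < 8192
  · exact allFrom_sound _ _ _ chkV_1 c (by omega) (by omega)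
  by_cases h2 : c < 12288
  · exact allFrom_sound _ _ _ chkV_2 c (by omega) (by omega)
  by_cases h3 : c < 16384
  · exact allFrom_sound _ _ _ chkV_3 c (by omega) (by omega)
  by_cases h4 : c < 20480
  · exact allFrom_sound _ _ _ chkV_4 c (by omega) (by omega)
  by_cases h5 : c < 24576
  · exact allFrom_sound _ _ _ chkV_5 c (by omega) (by omega)
  by_cases h6 : c < 28672
  · exact allFrom_sound _ _ _ chkV_6 c (by omega) (by omega)
  by_cases h7 : c < 32768
  · exact allFrom_sound _ _ _ chkV_7 c (by omega) (by omega)
  by_cases h8 : c < 36864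
  · exact allFrom_sound _ _ _ chkV_8 c (by omega) (by omega)
  by_cases h9 : c < 40960
  · exact allFrom_sound _ _ _ chkV_9 c (by omega) (by omega)
  by_cases h10 : c < 45056
  · exact allFrom_sound _ _ _ chkV_10 c (by omega) (by omega)
  by_cases h11 : c < 49152
  · exact allFrom_sound _ _ _ chkV_11 c (by omega) (by omega)
  by_cases h12 : c < 53248
  · exact allFrom_sound _ _ _ chkV_12 c (by omega) (by omega)
  by_cases h13 : c < 57344
  · exact allFrom_sound _ _ _ chkV_13 c (by omega) (by omega)
  by_cases h14 : c < 61440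
  · exact allFrom_sound _ _ _ chkV_14 c (by omega) (by omega)
  by_cases h15 : c < 65536
  · exact allFrom_sound _ _ _ chkV_15 c (by omega) (by omega)
  by_cases h16 : c < 69632
  · exact allFrom_sound _ _ _ chkV_16 c (by omega) (by omega)
  by_cases h17 : c < 73728
  · exact allFrom_sound _ _ _ chkV_17 c (by omega) (by omega)
  by_cases h18 : c < 77824
  · exact allFrom_sound _ _ _ chkV_18 c (by omega) (by omega)
  by_cases h19 : c < 81920
  · exact allFrom_sound _ _ _ chkV_19 c (by omega) (by omega)
  by_cases h20 : c < 86016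
  · exact allFrom_sound _ _ _ chkV_20 c (by omega) (by omega)
  by_cases h21 : c < 90112
  · exact allFrom_sound _ _ _ chkV_21 c (by omega) (by omega)
  by_cases h22 : c < 94208
  · exact allFrom_sound _ _ _ chkV_22 c (by omega) (by omega)
  by_cases h23 : c < 98304
  · exact allFrom_sound _ _ _ chkV_23 c (by omega) (by omega)
  by_cases h24 : c < 102400
  · exact allFrom_sound _ _ _ chkV_24 c (by omega) (by omega)
  by_cases h25 : c < 106496
  · exact allFrom_sound _ _ _ chkV_25 c (by omega) (by omega)
  by_cases h26 : c < 110592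
  · exact allFrom_sound _ _ _ chkV_26 c (by omega) (by omega)
  by_cases h27 : c < 114688
  · exact allFrom_sound _ _ _ chkV_27 c (by omega) (by omega)
  by_cases h28 : c < 118784
  · exact allFrom_sound _ _ _ chkV_28 c (by omega) (by omega)
  by_cases h29 : c < 122880
  · exact allFrom_sound _ _ _ chkV_29 c (by omega) (by omega)
  by_cases h30 : c < 126976
  · exact allFrom_sound _ _ _ chkV_30 c (by omega) (by omega)
  by_cases h31 : c < 131072
  · exact allFrom_sound _ _ _ chkV_31 c (by omega) (by omega)
  by_cases h32 : c < 135168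
  · exact allFrom_sound _ _ _ chkV_32 c (by omega) (by omega)
  by_cases h33 : c < 139264
  · exact allFrom_sound _ _ _ chkV_33 c (by omega) (by omega)
  by_cases h34 : c < 143360
  · exact allFrom_sound _ _ _ chkV_34 c (by omega) (by omega)
  by_cases h35 : c < 147456
  · exact allFrom_sound _ _ _ chkV_35 c (by omega) (by omega)
  by_cases h36 : c < 151552
  · exact allFrom_sound _ _ _ chkV_36 c (by omega) (by omega)
  by_cases h37 : c < 155648
  · exact allFrom_sound _ _ _ chkV_37 c (by omega) (by omega)
  by_cases h38 : c < 159744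
  · exact allFrom_sound _ _ _ chkV_38 c (by omega) (by omega)
  by_cases h39 : c < 163840
  · exact allFrom_sound _ _ _ chkV_39 c (by omega) (by omega)
  by_cases h40 : c < 167936
  · exact allFrom_sound _ _ _ chkV_40 c (by omega) (by omega)
  by_cases h41 : c < 172032
  · exact allFrom_sound _ _ _ chkV_41 c (by omega) (by omega)
  by_cases h42 : c < 176128
  · exact allFrom_sound _ _ _ chkV_42 c (by omega) (by omega)
  by_cases h43 : c < 180224
  · exact allFrom_sound _ _ _ chkV_43 c (by omega) (by omega)
  by_cases h44 : c < 184320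
  · exact allFrom_sound _ _ _ chkV_44 c (by omega) (by omega)
  by_cases h45 : c < 188416
  · exact allFrom_sound _ _ _ chkV_45 c (by omega) (by omega)
  by_cases h46 : c < 192512
  · exact allFrom_sound _ _ _ chkV_46 c (by omega) (by omega)
  by_cases h47 : c < 196608
  · exact allFrom_sound _ _ _ chkV_47 c (by omega) (by omega)
  by_cases h48 : c < 200704
  · exact allFrom_sound _ _ _ chkV_48 c (by omega) (by omega)
  by_cases h49 : c < 204800
  · exact allFrom_sound _ _ _ chkV_49 c (by omega) (by omega)
  by_cases h50 : c < 208896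
  · exact allFrom_sound _ _ _ chkV_50 c (by omega) (by omega)
  by_cases h51 : c < 212992
  · exact allFrom_sound _ _ _ chkV_51 c (by omega) (by omega)
  by_cases h52 : c < 217088
  · exact allFrom_sound _ _ _ chkV_52 c (by omega) (by omega)
  by_cases h53 : c < 221184
  · exact allFrom_sound _ _ _ chkV_53 c (by omega) (by omega)
  by_cases h54 : c < 225280
  · exact allFrom_sound _ _ _ chkV_54 c (by omega) (by omega)
  by_cases h55 : c < 229376
  · exact allFrom_sound _ _ _ chkV_55 c (by omega) (by omega)
  by_cases h56 : c < 233472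
  · exact allFrom_sound _ _ _ chkV_56 c (by omega) (by omega)
  by_cases h57 : c < 237568
  · exact allFrom_sound _ _ _ chkV_57 c (by omega) (by omega)
  by_cases h58 : c < 241664
  · exact allFrom_sound _ _ _ chkV_58 c (by omega) (by omega)
  by_cases h59 : c < 245760
  · exact allFrom_sound _ _ _ chkV_59 c (by omega) (by omega)
  by_cases h60 : c < 249856
  · exact allFrom_sound _ _ _ chkV_60 c (by omega) (by omega)
  by_cases h61 : c < 253952
  · exact allFrom_sound _ _ _ chkV_61 c (by omega) (by omega)
  by_cases h62 : c < 258048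
  · exact allFrom_sound _ _ _ chkV_62 c (by omega) (by omega)
  exact allFrom_sound _ _ _ chkV_63 c (by omega) (by omega)

end Cfsg.Agent.H10.J3
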