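import Cfsg.Agent.H10.J3Gens

/-!
Small kernel-checked identities between the codes used for `3·J₃`.
-/

set_option autoImplicit false

namespace Cfsg.Agent.H10.J3

open Cfsg.Agent.H10.F4 Cfsg.Spor

theorem Tc_zero : Tc tT 0 = ONE := by decide +kernel
theorem Ec_eid : Ec tE 324 = ONE := by decide +kernel
theorem sch0 : mulP cX (Tc tT 4838) = mulP (Tc tT 19309) cS0 := by decide +kernel
theorem sch1 : mulP cX (Tc tT 9046) = mulP (Tc tT 21152) cS1 := by decide +kernel
theorem key_cS : key cS0 = key ONE ∧ key cS1 = key ONE := by decide +kernel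
theorem scal1 : Ec tE 4981 = codeOf (wAll ONE) := by decide +kernel
theorem scal2 : Ec tE 5102 = codeOf (wAll (wAll ONE)) := by decide +kernel
theorem cX_eq : mulP (cC (2, 0)) (mulP (cD (2, 0)) (cD (2, 1))) = cX := by decide +kernel
theorem cX'_eq : mulP (mulP (cA (0, 1)) cX) iA = cX' := by decide +kernel
theorem inv_C : mulP (cC (2, 0)) iC = ONE ∧ mulP iC (cC (2, 0)) = ONE := by decide +kernel
theorem inv_D : mulP (cD (2, 0)) iD = ONE ∧ mulP iD (cD (2, 0)) = ONE := by decide +kernel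
theorem inv_D' : mulP (cD (2, 1)) iD' = ONE ∧ mulP iD' (cD (2, 1)) = ONE := by decide +kernel
theorem inv_A : mulP (cA (0, 1)) iA = ONE ∧ mulP iA (cA (0, 1)) = ONE := by decide +kernel
theorem pow_cX : powP cX 19 = ONE ∧ powP cX' 19 = ONE := by decide +kernel
theorem pow_cU : powP cU 17 = ONE ∧ powP cV 17 = ONE ∧ powP cU' 17 = ONE ∧ powP cV' 17 = ONE := by
  decide +kernel
theorem mul_cU : mulP cU cV = cX ∧ mulP cU' cV' = cX' := by decide +kernel
theorem sift_cU : mulP (Tc tT sU.1) (Ec tE sU.2) = cU ∧ mulP (Tc tT sV.1) (Ec tE sV.2) = cV ∧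
    mulP (Tc tT sU'.1) (Ec tE sU'.2) = cU' ∧ mulP (Tc tT sV'.1) (Ec tE sV'.2) = cV' := by
  decide +kernel
theorem noncomm : codeOf (mulP cX cX') ≠ codeOf (mulP cX' cX) := by decide +kernel

end Cfsg.Agent.H10.J3
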