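import Cfsg.Agent.H10.J3.TT0
import Cfsg.Agent.H10.J3.TT1
import Cfsg.Agent.H10.J3.TT2
import Cfsg.Agent.H10.J3.TT3
import Cfsg.Agent.H10.J3.TE

set_option autoImplicit false

namespace Cfsg.Agent.H10.J3

open Cfsg.Agent.H10.F4

/-- the transversal table (23256 entries) -/
noncomputable def tT : Tree :=
  (.node (.node (.node (.node (.node (.leaf lT0) (.leaf lT16)) (.leaf lT8)) (.node (.node (.leaf lT4) (.leaf lT20)) (.leaf lT12))) (.node (.node (.node (.leaf lT2) (.leaf lT18)) (.leaf lT10)) (.node (.node (.leaf lT6) (.leaf lT22)) (.leaf lT14)))) (.node (.node (.node (.node (.leaf lT1) (.leaf lT17)) (.leaf lT9)) (.node (.node (.leaf lT5) (.leaf lT21)) (.leaf lT13))) (.node (.node (.node (.leaf lT3) (.leaf lT19)) (.leaf lT11)) (.node (.leaf lT7) (.leaf lT15)))))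

/-- the first generator `x` (order 19) -/
def cX : Nat := 22307040446982157238390194639789407422587280
/-- the second generator, a conjugate of `x` -/
def cX' : Nat := 11421123879854329703271504584676315933402333328
/-- first generator of the line stabiliser -/
def cS0 : Nat := 4572907218006562087025025775139127877428934869505
/-- second generator of the line stabiliser -/
def cS1 : Nat := 137242009305731516533140556142877087692880871937

end Cfsg.Agent.H10.J3
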