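import Cfsg.Agent.H10.J3.TV0
import Cfsg.Agent.H10.J3.TV1
import Cfsg.Agent.H10.J3.TV2
import Cfsg.Agent.H10.J3.TV3
import Cfsg.Agent.H10.J3.TV4
import Cfsg.Agent.H10.J3.TV5
import Cfsg.Agent.H10.J3.TV6
import Cfsg.Agent.H10.J3.TV7
import Cfsg.Agent.H10.J3.TT

set_option autoImplicit false

namespace Cfsg.Agent.H10.J3

open Cfsg.Agent.H10.F4

/-- the table of isotropic vectors (262144 entries) -/
noncomputable def tV : Tree :=
  (.node (.node (.node (.node (.node (.node (.node (.node (.leaf lV0) (.leaf lV128)) (.node (.leaf lV64) (.leaf lV192))) (.node (.node (.leaf lV32) (.leaf lV160)) (.node (.leaf lV96) (.leaf lV224)))) (.node (.node (.node (.leaf lV16) (.leaf lV144)) (.node (.leaf lV80) (.leaf lV208))) (.node (.node (.leaf lV48) (.leaf lV176)) (.node (.leaf lV112) (.leaf lV240))))) (.node (.node (.node (.node (.leaf lV8) (.leaf lV136)) (.node (.leaf lV72) (.leaf lV200))) (.node (.node (.leaf lV40) (.leaf lV168)) (.node (.leaf lV104) (.leaf lV232)))) (.node (.node (.node (.leaf lV24) (.leaf lV152))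 (.node (.leaf lV88) (.leaf lV216))) (.node (.node (.leaf lV56) (.leaf lV184)) (.node (.leaf lV120) (.leaf lV248)))))) (.node (.node (.node (.node (.node (.leaf lV4) (.leaf lV132)) (.node (.leaf lV68) (.leaf lV196))) (.node (.node (.leaf lV36) (.leaf lV164)) (.node (.leaf lV100) (.leaf lV228)))) (.node (.node (.node (.leaf lV20) (.leaf lV148)) (.node (.leaf lV84) (.leaf lV212))) (.node (.node (.leaf lV52) (.leaf lV180)) (.node (.leaf lV116) (.leaf lV244))))) (.node (.node (.node (.node (.leaf lV12) (.leaf lV140)) (.node (.leaf lV76) (.leaf lV204))) (.node (.node (.leaf lV44) (.leaf lV172)) (.node (.leaf lV108) (.leaf lV236)))) (.node (.node (.node (.leaf lV28) (.leaf lV156)) (.node (.leaf lV92) (.leaf lV220))) (.node (.node (.leaf lV60) (.leaf lV188)) (.node (.leaf lV124) (.leaf lV252))))))) (.node (.node (.node (.node (.node (.node (.leaf lV2) (.leaf lV130)) (.node (.leaf lV66) (.leaf lV194))) (.node (.node (.leaf lV34) (.leaf lV162)) (.node (.leaf lV98) (.leaf lV226)))) (.node (.node (.node (.leaf lV18)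 (.leaf lV146)) (.node (.leaf lV82) (.leaf lV210))) (.node (.node (.leaf lV50) (.leaf lV178)) (.node (.leaf lV114) (.leaf lV242))))) (.node (.node (.node (.node (.leaf lV10) (.leaf lV138)) (.node (.leaf lV74) (.leaf lV202))) (.node (.node (.leaf lV42) (.leaf lV170)) (.node (.leaf lV106) (.leaf lV234)))) (.node (.node (.node (.leaf lV26) (.leaf lV154)) (.node (.leaf lV90) (.leaf lV218))) (.node (.node (.leaf lV58) (.leaf lV186)) (.node (.leaf lV122) (.leaf lV250)))))) (.node (.node (.node (.node (.node (.leaf lV6) (.leaf lV134)) (.node (.leaf lV70) (.leaf lV198))) (.node (.node (.leaf lV38) (.leaf lV166)) (.node (.leaf lV102) (.leaf lV230)))) (.node (.node (.node (.leaf lV22) (.leaf lV150)) (.node (.leaf lV86) (.leaf lV214))) (.node (.node (.leaf lV54) (.leaf lV182)) (.node (.leaf lV118) (.leaf lV246))))) (.node (.node (.node (.node (.leaf lV14) (.leaf lV142)) (.node (.leaf lV78) (.leaf lV206))) (.node (.node (.leaf lV46) (.leaf lV174)) (.node (.leaf lV110) (.leaf lV238)))) (.node (.node (.node (.leaf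 lV30) (.leaf lV158)) (.node (.leaf lV94) (.leaf lV222))) (.node (.node (.leaf lV62) (.leaf lV190)) (.node (.leaf lV126) (.leaf lV254)))))))) (.node (.node (.node (.node (.node (.node (.node (.leaf lV1) (.leaf lV129)) (.node (.leaf lV65) (.leaf lV193))) (.node (.node (.leaf lV33) (.leaf lV161)) (.node (.leaf lV97) (.leaf lV225)))) (.node (.node (.node (.leaf lV17) (.leaf lV145)) (.node (.leaf lV81) (.leaf lV209))) (.node (.node (.leaf lV49) (.leaf lV177)) (.node (.leaf lV113) (.leaf lV241))))) (.node (.node (.node (.node (.leaf lV9) (.leaf lV137)) (.node (.leaf lV73) (.leaf lV201))) (.node (.node (.leaf lV41) (.leaf lV169)) (.node (.leaf lV105) (.leaf lV233)))) (.node (.node (.node (.leaf lV25) (.leaf lV153)) (.node (.leaf lV89) (.leaf lV217))) (.node (.node (.leaf lV57) (.leaf lV185)) (.node (.leaf lV121) (.leaf lV249)))))) (.node (.node (.node (.node (.node (.leaf lV5) (.leaf lV133)) (.node (.leaf lV69) (.leaf lV197))) (.node (.node (.leaf lV37) (.leaf lV165)) (.node (.leaf lV101) (.leaf lV229)))) (.node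 (.node (.node (.leaf lV21) (.leaf lV149)) (.node (.leaf lV85) (.leaf lV213))) (.node (.node (.leaf lV53) (.leaf lV181)) (.node (.leaf lV117) (.leaf lV245))))) (.node (.node (.node (.node (.leaf lV13) (.leaf lV141)) (.node (.leaf lV77) (.leaf lV205))) (.node (.node (.leaf lV45) (.leaf lV173)) (.node (.leaf lV109) (.leaf lV237)))) (.node (.node (.node (.leaf lV29) (.leaf lV157)) (.node (.leaf lV93) (.leaf lV221))) (.node (.node (.leaf lV61) (.leaf lV189)) (.node (.leaf lV125) (.leaf lV253))))))) (.node (.node (.node (.node (.node (.node (.leaf lV3) (.leaf lV131)) (.node (.leaf lV67) (.leaf lV195))) (.node (.node (.leaf lV35) (.leaf lV163)) (.node (.leaf lV99) (.leaf lV227)))) (.node (.node (.node (.leaf lV19) (.leaf lV147)) (.node (.leaf lV83) (.leaf lV211))) (.node (.node (.leaf lV51) (.leaf lV179)) (.node (.leaf lV115) (.leaf lV243))))) (.node (.node (.node (.node (.leaf lV11) (.leaf lV139)) (.node (.leaf lV75) (.leaf lV203))) (.node (.node (.leaf lV43) (.leaf lV171)) (.node (.leaf lV107) (.leaf lV235))))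 (.node (.node (.node (.leaf lV27) (.leaf lV155)) (.node (.leaf lV91) (.leaf lV219))) (.node (.node (.leaf lV59) (.leaf lV187)) (.node (.leaf lV123) (.leaf lV251)))))) (.node (.node (.node (.node (.node (.leaf lV7) (.leaf lV135)) (.node (.leaf lV71) (.leaf lV199))) (.node (.node (.leaf lV39) (.leaf lV167)) (.node (.leaf lV103) (.leaf lV231)))) (.node (.node (.node (.leaf lV23) (.leaf lV151)) (.node (.leaf lV87) (.leaf lV215))) (.node (.node (.leaf lV55) (.leaf lV183)) (.node (.leaf lV119) (.leaf lV247))))) (.node (.node (.node (.node (.leaf lV15) (.leaf lV143)) (.node (.leaf lV79) (.leaf lV207))) (.node (.node (.leaf lV47) (.leaf lV175)) (.node (.leaf lV111) (.leaf lV239)))) (.node (.node (.node (.leaf lV31) (.leaf lV159)) (.node (.leaf lV95) (.leaf lV223))) (.node (.node (.leaf lV63) (.leaf lV191)) (.node (.leaf lV127) (.leaf lV255)))))))))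

/-- the root isotropic vector `e₁ + e₂` -/
def cR0 : Nat := 6

end Cfsg.Agent.H10.J3
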